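import Groth.Agent.HopfQuot.CommMultPart
import Groth.Agent.SGA3bLib.DiagQuot
import Groth.Agent.IsoTriv.ExtensionMT
import Mathlib.RingTheory.Coalgebra.GroupLike

/-!
# Exactness of the largest subgroup of multiplicative type
-/

set_option autoImplicit false
set_option linter.unusedSectionVars false
set_option linter.style.haveILetI false

noncomputable section

universe u
open TensorProduct
open HopfRep SGA3 Groth.Agent.HopfLib Groth.Agent.HopfQuot Groth.Agent.HopfQuot.CommMultPart Groth.Agent.SGA3bLib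

namespace Groth.Agent.MultSeq25

variable (k : Type u) [Field k] {A : Type u} [CommRing A] [HopfAlgebra k A] [Coalgebra.IsCocomm k A]

/-- The ideal of the largest subgroup of multiplicative type. -/
abbrev mIdeal (A : Type u) [CommRing A] [HopfAlgebra k A] : Ideal A :=
  SGA3.augIdealSpan k A (unipAlg k A)

theorem isNormalSub_mIdeal : IsNormalSub k A (mIdeal k A) :=
  isNormalSub_augIdealSpan isHopfSubalgebra_unipAlg

instance isHopfIdeal_mIdeal : (mIdeal k A).IsHopfIdeal k := (isNormalSub_mIdeal k).isHopfIdeal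

/-- The projection to the largest subgroup of multiplicative type. -/
abbrev mProj (A : Type u) [CommRing A] [HopfAlgebra k A] [Coalgebra.IsCocomm k A] :
    A →ₐc[k] A ⧸ mIdeal k A :=
  Bialgebra.Quotient.mkBialgHom (R := k) (mIdeal k A)

theorem mem_mIdeal_of_unip {a : A} {r : ℕ} (ha : a ∈ socFil k A (r + 1))
    (hε : CoalgebraStruct.counit (R := k) a = 0) : a ∈ mIdeal k A :=
  Ideal.subset_span ⟨mem_unipAlg.2 ⟨r, ha⟩, hε⟩

section Bc

variable (K : Type u) [Field K] [Algebra k K]

theorem ker_bc_le : RingHom.ker (bcHom K (mProj k A) : K ⊗[k] A →ₐ[K] K ⊗[k] (A ⧸ mIdeal k A)) ≤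
    mIdeal K (K ⊗[k] A) := by
  rw [ker_bcHom K _ Ideal.Quotient.mk_surjective]
  refine Ideal.map_le_iff_le_comap.2 ?_
  intro a ha
  have ha' : a ∈ mIdeal k A := Ideal.Quotient.eq_zero_iff_mem.1 ha
  refine (Ideal.span_le.2 ?_ : mIdeal k A ≤ _) ha'
  rintro b ⟨hb, hε⟩
  obtain ⟨r, hr⟩ := mem_unipAlg.1 hb
  refine mem_mIdeal_of_unip K (one_tmul_mem_socFil (K := K) _ b hr) ?_
  simp [hε]

/-- After extension to an algebraically closed field the largest subgroup of multiplicative type is
spanned by the images of group-like elements. -/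
theorem span_quot_eq_top [IsAlgClosed K] :
    Submodule.span K (bcHom K (mProj k A) '' {g : K ⊗[k] A | IsGroupLikeElem K g}) = ⊤ := by
  haveI : Coalgebra.IsCocomm K (K ⊗[k] A) := isCocomm_baseChange
  let π := mProj k A
  let πK := bcHom K π
  have hscal : ∀ b ∈ unipAlg K (K ⊗[k] A), ∃ c : K, πK b = c • 1 := by
    intro b hb
    obtain ⟨r, hr⟩ := mem_unipAlg.1 hb
    have hb' := socFil_baseChange_le (r + 1) hr
    rw [Submodule.baseChange_eq_span] at hb'
    refine Submodule.mem_span_singleton.1 ?_ |>.imp fun c hc => hc.symm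
    refine Submodule.span_le.2 ?_ (Submodule.apply_mem_span_image_of_mem_span
      (πK : K ⊗[k] A →ₐ[K] K ⊗[k] (A ⧸ mIdeal k A)).toLinearMap hb')
    rintro _ ⟨_, ⟨a, ha, rfl⟩, rfl⟩
    refine Submodule.mem_span_singleton.2 ⟨algebraMap k K (CoalgebraStruct.counit (R := k) a), ?_⟩
    have hmk : π a = algebraMap k _ (CoalgebraStruct.counit (R := k) a) := by
      show Ideal.Quotient.mk _ a = Ideal.Quotient.mk _ (algebraMap k A _)
      refine Ideal.Quotient.eq.2 (Ideal.subset_span ⟨?_, ?_⟩)
      · exact sub_mem (mem_unipAlg.2 ⟨r, ha⟩) (Subalgebra.algebraMap_mem _ _)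
      · rw [map_sub, Bialgebra.counit_algebraMap, sub_self]
    show _ = πK ((1 : K) ⊗ₜ[k] a)
    rw [show πK ((1 : K) ⊗ₜ[k] a) = (1 : K) ⊗ₜ[k] π a from rfl, hmk, algebraMap_smul,
      Algebra.TensorProduct.one_def, ← TensorProduct.tmul_smul, Algebra.algebraMap_eq_smul_one]
  refine top_le_iff.1 ?_
  rintro x -
  obtain ⟨y, rfl⟩ := bcHom_surjective K π Ideal.Quotient.mk_surjective x
  have hy := (span_translates_eq_top (k := K) (A := K ⊗[k] A)).ge (Submodule.mem_top (x := y))
  induction hy using Submodule.span_induction with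
  | mem z hz =>
    obtain ⟨g, b, hg, hb, rfl⟩ := hz
    obtain ⟨c, hc⟩ := hscal b hb
    rw [map_mul, hc, mul_smul_comm, mul_one]
    exact Submodule.smul_mem _ _ (Submodule.subset_span ⟨g, hg, rfl⟩)
  | zero => rw [map_zero]; exact zero_mem _
  | add p q _ _ hp hq => rw [map_add]; exact add_mem hp hq
  | smul c p _ hp => rw [map_smul]; exact Submodule.smul_mem _ _ hp

end Bc

/-- A quotient of the largest subgroup of multiplicative type is of multiplicative type. -/
theorem isMultTypeConst_of_le {P : Ideal A} [P.IsHopfIdeal k] (hP : mIdeal k A ≤ P) :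
    SGA3b.IsMultTypeConst k (A ⧸ P) := by
  let K := AlgebraicClosure k
  let ρ : (A ⧸ mIdeal k A) →ₐc[k] A ⧸ P := bialgHomOfComp (mProj k A) (Bialgebra.Quotient.mkBialgHom (R := k) P)
    Ideal.Quotient.mk_surjective (Ideal.Quotient.factorₐ k hP) fun _ => rfl
  refine ⟨K, inferInstance, inferInstance, inferInstance, isDiag_of_span_groupLike ?_⟩
  refine span_groupLike_map (bcHom K ρ) (bcHom_surjective K ρ fun y => ?_) (top_le_iff.1 ?_)
  · obtain ⟨a, rfl⟩ := Ideal.Quotient.mk_surjective y
    exact ⟨Ideal.Quotient.mk _ a, rfl⟩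
  · rw [← span_quot_eq_top (A := A) k K]
    refine Submodule.span_mono ?_
    rintro _ ⟨g, hg, rfl⟩
    exact hg.map _

/-- The largest subgroup of multiplicative type contains all others. -/
theorem mIdeal_le {B : Type u} [CommRing B] [HopfAlgebra k B] (π : A →ₐc[k] B) (hmt : SGA3b.IsMultType k B) :
    mIdeal k A ≤ RingHom.ker (π : A →+* B) := by
  have hprim : ∀ x : B, CoalgebraStruct.comul (R := k) x = x ⊗ₜ[k] (1 : B) + (1 : B) ⊗ₜ[k] x → x = 0 :=
    fun x hx => IsoTriv.ExtensionMT.eq_zero_of_primitive_multType hmt hx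
  refine Ideal.span_le.2 ?_
  rintro a ⟨ha, hεa⟩
  obtain ⟨r, hr⟩ := mem_unipAlg.1 ha
  have h := socFil_le_one hprim r (map_mem_socFil π _ a hr)
  rw [socFil_one] at h
  obtain ⟨c, hc⟩ := Submodule.mem_span_singleton.1 h
  have hc0 : c = 0 := by
    have := congrArg (CoalgebraStruct.counit (R := k) (A := B)) hc
    rw [map_smul, Bialgebra.counit_one, smul_eq_mul, mul_one, CoalgHomClass.counit_comp_apply, hεa] at this
    exact this
  rw [hc0, zero_smul] at hc
  exact hc.symm

variable {A' : Type u} [CommRing A'] [HopfAlgebra k A'] [Coalgebra.IsCocomm k A']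

/-- The largest subgroup of multiplicative type is functorial. -/
theorem mIdeal_le_comap (φ : A' →ₐc[k] A) : mIdeal k A' ≤ (mIdeal k A).comap φ := by
  refine Ideal.span_le.2 ?_
  rintro b ⟨hb, hε⟩
  obtain ⟨r, hr⟩ := mem_unipAlg.1 hb
  exact mem_mIdeal_of_unip k (map_mem_socFil φ _ b hr) (by rw [CoalgHomClass.counit_comp_apply, hε])

/-- The induced map on largest subgroups of multiplicative type. -/
def mMap (φ : A' →ₐc[k] A) : (A' ⧸ mIdeal k A') →ₐc[k] A ⧸ mIdeal k A :=
  bialgHomOfComp (mProj k A') ((mProj k A).comp φ) Ideal.Quotient.mk_surjective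
    (Ideal.Quotient.liftₐ _ ((Ideal.Quotient.mkₐ k (mIdeal k A)).comp (φ : A' →ₐ[k] A))
      fun _ ha => Ideal.Quotient.eq_zero_iff_mem.2 (mIdeal_le_comap k φ ha))
    fun _ => rfl

/-- A group-like element in the socle filtration is `1`. -/
theorem eq_one_of_groupLike {g : A} (hg : IsGroupLikeElem k g) : ∀ r, g ∈ socFil k A r → g = 1 := by
  intro r
  induction r with
  | zero =>
    intro h
    rw [socFil, Submodule.mem_bot] at h
    exact absurd h hg.ne_zero
  | succ r ih =>
    intro h
    by_cases hgk : g ∈ Submodule.span k {(1 : A)}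
    · obtain ⟨c, rfl⟩ := Submodule.mem_span_singleton.1 hgk
      have := hg.counit_eq_one
      rw [map_smul, Bialgebra.counit_one, smul_eq_mul, mul_one] at this
      rw [this, one_smul]
    · obtain ⟨φ, hφ, hφ1⟩ := Submodule.exists_dual_map_eq_bot_of_notMem hgk inferInstance
      have hφ0 : φ 1 = 0 := (Submodule.mem_bot k).1 (hφ1 ▸ Submodule.mem_map_of_mem (Submodule.mem_span_singleton_self (1 : A)))
      have h2 : hit (V := A) φ g ∈ socFil k A r := mem_socFil_succ.1 h φ hφ0
      rw [hit_regular, hg.comul_eq_tmul_self, sliceR_tmul] at h2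
      exact ih ((Submodule.smul_mem_iff _ hφ).1 h2)

/-- A group-like element congruent to `1` modulo the ideal of the multiplicative part is `1`. -/
theorem eq_one_of_sub_mem {g : A} (hg : IsGroupLikeElem k g) (h : g - 1 ∈ mIdeal k A) : g = 1 := by
  have hmem : g ∈ invAlg k (mIdeal k A) := by
    rw [mem_invAlg, shift_eq, hg.comul_eq_tmul_self, LinearMap.lTensor_tmul]
    congr 1
    exact Ideal.Quotient.eq.2 h
  rw [invAlg_eq_of_augIdealSpan isHopfSubalgebra_unipAlg] at hmem
  obtain ⟨r, hr⟩ := mem_unipAlg.1 hmem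
  exact eq_one_of_groupLike k hg _ hr

/-- An injective map of groups induces an injective map on largest subgroups of multiplicative type. -/
theorem mMap_injective (φ : A' →ₐc[k] A) (hφ : Function.Injective φ) : Function.Injective (mMap k φ) := by
  let K := AlgebraicClosure k
  haveI : Coalgebra.IsCocomm K (K ⊗[k] A') := isCocomm_baseChange
  haveI : Coalgebra.IsCocomm K (K ⊗[k] A) := isCocomm_baseChange
  let φK := bcHom K φ
  let f := bcHom K (mMap k φ)
  let π' := bcHom K (mProj k A')
  let π := bcHom K (mProj k A)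
  have hφK : Function.Injective φK :=
    Module.Flat.lTensor_preserves_injective_linearMap (M := K) (φ : A' →ₐ[k] A).toLinearMap hφ
  have hcomp : ∀ x, f (π' x) = π (φK x) := fun x => by
    induction x using TensorProduct.induction_on with
    | zero => simp
    | add p q hp hq => simp only [map_add, hp, hq]
    | tmul c a => rfl
  suffices hf : Function.Injective f by
    intro x y h
    exact includeRight_injective (k := k) (R := K) (hf (show (1 : K) ⊗ₜ[k] mMap k φ x = (1 : K) ⊗ₜ[k] mMap k φ y by rw [h]))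
  let s := π' '' {g : K ⊗[k] A' | IsGroupLikeElem K g}
  have hgl : ∀ z ∈ s, IsGroupLikeElem K z := by
    rintro _ ⟨g, hg, rfl⟩; exact hg.map π'
  have hinj : Set.InjOn f s := by
    rintro _ ⟨g, hg, rfl⟩ _ ⟨g', hg', rfl⟩ h
    rw [hcomp, hcomp] at h
    have hS := hg'.antipode
    have hh : IsGroupLikeElem K (φK (g * HopfAlgebraStruct.antipode K g')) := (hg.mul hS).map φK
    have h1 : φK (g * HopfAlgebraStruct.antipode K g') = 1 := by
      refine eq_one_of_sub_mem K hh (ker_bc_le k K ?_)
      show π (φK (g * HopfAlgebraStruct.antipode K g') - 1) = 0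
      rw [map_sub, map_mul φK, map_mul π, h, ← map_mul π, ← map_mul φK, hg'.mul_antipode_cancel, map_one, map_one,
        sub_self]
    have h2 : g * HopfAlgebraStruct.antipode K g' = 1 := hφK (h1.trans (map_one φK).symm)
    have h3 : g = g' := by
      rw [← mul_one g, ← hg'.antipode_mul_cancel, ← mul_assoc, h2, one_mul]
    rw [h3]
  have hind : LinearIndependent K fun z : s => f z := by
    have h := (linearIndepOn_isGroupLikeElem (R := K) (A := K ⊗[k] (A ⧸ mIdeal k A))).comp
      (fun z : s => (⟨f z, (hgl z z.2).map f⟩ : {a // IsGroupLikeElem K a}))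
      fun z w hzw => Subtype.ext (hinj z.2 w.2 (congrArg Subtype.val hzw))
    exact h
  have hspan : ⊤ ≤ Submodule.span K (Set.range fun z : s => (z : K ⊗[k] (A' ⧸ mIdeal k A'))) := by
    rw [Subtype.range_coe, span_quot_eq_top]
  have hindS : LinearIndependent K fun z : s => (z : K ⊗[k] (A' ⧸ mIdeal k A')) :=
    LinearIndependent.of_comp ((f : K ⊗[k] (A' ⧸ mIdeal k A') →ₐ[K] K ⊗[k] (A ⧸ mIdeal k A)).toLinearMap) hind
  exact LinearMap.injective_of_linearIndependent
    (f := (f : K ⊗[k] (A' ⧸ mIdeal k A') →ₐ[K] K ⊗[k] (A ⧸ mIdeal k A)).toLinearMap) (top_le_iff.1 hspan) hind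

end Groth.Agent.MultSeq25
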