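import Groth.Agent.MultSeq25.Scheme
import Groth.Agent.S4129
import Groth.Agent.HopfLib.UnipotentPoints
import Groth.Agent.HopfLib.UnipotentPrimitive
import Groth.Agent.HopfLib.Cartier
import Groth.Agent.CohDer1.TrigSep.Back

/-!
# A complement of the largest subgroup of multiplicative type up to a finite group
-/

set_option autoImplicit false
set_option backward.isDefEq.respectTransparency.types false
set_option linter.style.haveILetI false
set_option linter.unusedSectionVars false
set_option linter.unusedVariables false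
set_option maxHeartbeats 1000000

noncomputable section

universe u

open TensorProduct WithConv HopfRep
open Groth.Agent.HopfLib Groth.Agent.HopfQuot Groth.Agent.HopfQuot.CommMultPart Groth.Agent.SGA3bLib

namespace Groth.Agent.MultSeq25

variable (k : Type u) [Field k] {A : Type u} [CommRing A] [HopfAlgebra k A] [Coalgebra.IsCocomm k A]

theorem isHopfSub : SGA3.IsHopfSubalgebra k A (unipAlg k A) := isHopfSubalgebra_unipAlg

/-- The Hopf algebra of the largest unipotent quotient. -/
instance instHopfUnipAlg : HopfAlgebra k (unipAlg k A) := subHopf (B := unipAlg k A) (isHopfSub k)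

/-- The projection to the largest unipotent quotient. -/
def incl : unipAlg k A →ₐc[k] A :=
  BialgHom.ofAlgHom (unipAlg k A).val (AlgHom.ext fun c => rfl) (AlgHom.ext fun c => map_subComul (isHopfSub k) c)

theorem incl_injective : Function.Injective (incl k (A := A)) := fun x y h => Subtype.ext h

theorem isUnipotent_unipAlg : IsUnipotent k (unipAlg k A) := by
  refine isUnipotent_iff_forall_mem_socFil.2 fun b => ?_
  obtain ⟨r, hr⟩ := mem_unipAlg.1 b.2
  exact ⟨r, mem_socFil_of_injective (incl k (A := A)) (incl_injective k (A := A)) _ b hr⟩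

theorem mIdeal_eq_map :
    mIdeal k A = Ideal.map (incl k (A := A) : unipAlg k A →+* A) (RingHom.ker (Bialgebra.counitAlgHom k (unipAlg k A))) := by
  refine (congrArg Ideal.span (Set.ext fun a => ⟨?_, fun ha => ?_⟩))
  · intro ha
    exact ⟨⟨a, ha.1⟩, ha.2, rfl⟩
  · obtain ⟨b, hb, rfl⟩ := ha
    exact ⟨b.2, hb⟩

theorem isCocomm_unipAlg : Coalgebra.IsCocomm k (unipAlg k A) := by
  refine ⟨LinearMap.ext fun x => ?_⟩
  have hinj : Function.Injective (TensorProduct.map (incl k (A := A) : unipAlg k A →ₗ[k] A)
      (incl k (A := A) : unipAlg k A →ₗ[k] A)) :=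
    TensorProduct.map_injective_of_flat_flat _ _ (incl_injective k) (incl_injective k)
  apply hinj
  show TensorProduct.map _ _ (TensorProduct.comm k _ _ (CoalgebraStruct.comul x)) =
    TensorProduct.map _ _ (CoalgebraStruct.comul x)
  rw [TensorProduct.map_comm, CoalgHomClass.map_comp_comul_apply, Coalgebra.comm_comul]

/-- In characteristic zero the unipotent quotient splits. -/
theorem exists_retraction [CharZero k] [Algebra.FiniteType k A] :
    ∃ r : A →ₐc[k] unipAlg k A, ∀ b, r (incl k b) = b := by
  haveI := isCocomm_unipAlg k (A := A)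
  haveI : Algebra.FiniteType k (unipAlg k A) :=
    CohDer1.TrigSep.finiteType_of_injective (incl k (A := A)) (incl_injective k (A := A))
  haveI : Algebra.Smooth k (unipAlg k A) := smooth_of_charZero
  have hU := isUnipotent_unipAlg k (A := A)
  haveI := HopfLib.finite_range_logMap hU
  let b := Module.finBasis k (LinearMap.range (HopfLib.logMap hU (AlgHom.id k (unipAlg k A))))
  let φ : MvPolynomial (Fin (Module.finrank k (LinearMap.range (HopfLib.logMap hU (AlgHom.id k (unipAlg k A))))))
      k →ₐ[k] unipAlg k A := MvPolynomial.aeval fun i => (b i : unipAlg k A)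
  have hinj : Function.Injective φ := HopfLib.algebraicIndependent_of_linearIndependent_primitive hU b
  have hsurj : Function.Surjective φ := by
    refine AlgHom.range_eq_top φ |>.1 (eq_top_iff.2 ?_)
    rw [← HopfLib.adjoin_range_logMap hU, Algebra.adjoin_le_iff]
    rintro _ ⟨a, rfl⟩
    have hle : Submodule.span k (Set.range b) ≤ (Subalgebra.toSubmodule φ.range).comap (Submodule.subtype _) := by
      rw [Submodule.span_le]
      rintro _ ⟨i, rfl⟩
      exact ⟨MvPolynomial.X i, MvPolynomial.aeval_X _ _⟩
    exact hle (b.span_eq.symm ▸ Submodule.mem_top (x := (⟨_, LinearMap.mem_range_self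
      (HopfLib.logMap hU (AlgHom.id k (unipAlg k A))) a⟩ :
        LinearMap.range (HopfLib.logMap hU (AlgHom.id k (unipAlg k A))))))
  haveI : IsDomain (unipAlg k A) := (AlgEquiv.ofBijective φ ⟨hinj, hsurj⟩).toMulEquiv.symm.isDomain _
  obtain ⟨r, hr, -⟩ := S4129.result k A (unipAlg k A) hU (incl k (A := A)) (incl_injective k (A := A)) (mIdeal k A)
    (mIdeal_eq_map k) (isMultTypeConst_of_le k le_rfl) (fun e he => IsIdempotentElem.iff_eq_zero_or_one.1 he)
  exact ⟨r, fun b => DFunLike.congr_fun hr b⟩

/-- Restricting a point along the unipotent quotient. -/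
def resHom (R : Type u) [CommRing R] [Algebra k R] : Pt k A R →* Pt k (unipAlg k A) R where
  toFun g := toConv (g.ofConv.comp (incl k (A := A) : unipAlg k A →ₐ[k] A))
  map_one' := by
    refine WithConv.ext (AlgHom.ext fun b => ?_)
    show (1 : Pt k A R).ofConv (incl k b) = _
    rw [HopfQuot.one_apply, HopfQuot.one_apply, CoalgHomClass.counit_comp_apply]
  map_mul' g h := by
    refine WithConv.ext (AlgHom.ext fun b => ?_)
    show (g * h).ofConv (incl k b) = _
    rw [HopfQuot.mul_apply, HopfQuot.mul_apply, ← CoalgHomClass.map_comp_comul_apply (incl k) b]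
    generalize CoalgebraStruct.comul (R := k) b = t
    induction t using TensorProduct.induction_on with
    | zero => simp
    | add p q hp hq => simp only [map_add, hp, hq]
    | tmul p q => simp

/-- In characteristic `p` some `p`-power of every point lies in the multiplicative part. -/
theorem exists_pow_kills (p : ℕ) [Fact p.Prime] [CharP k p] [Algebra.FiniteType k A] :
    ∃ m, ∀ (R : Type u) [CommRing R] [Algebra k R] (g : Pt k A R), Kills (mIdeal k A) (g ^ p ^ m) := by
  haveI : Algebra.FiniteType k (unipAlg k A) :=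
    CohDer1.TrigSep.finiteType_of_injective (incl k (A := A)) (incl_injective k (A := A))
  have key : ∀ (R : Type u) [CommRing R] [Algebra k R],
      ∃ m, 0 < m ∧ ∀ g : WithConv (unipAlg k A →ₐ[k] R), g ^ p ^ m = 1 :=
    fun R _ _ => exists_pow_primePow_eq_one (B := R) p (isUnipotent_unipAlg k)
  obtain ⟨m, -, hm⟩ := key A
  refine ⟨m, fun R _ _ g => ?_⟩
  have hid : resHom k (A := A) A (idPt k A ^ p ^ m) = 1 := by rw [map_pow]; exact hm _
  intro a ha
  have h0 : (idPt k A ^ p ^ m).ofConv a = 0 := by
    refine kills_augIdealSpan_iff.2 (fun b hb => ?_) a ha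
    have := congrArg (fun x => x.ofConv (⟨b, hb⟩ : unipAlg k A)) hid
    refine this.trans ?_
    exact one_apply _
  rw [← push_idPt g, ← map_pow, push_apply, h0, map_zero]

theorem pow_apply_groupLike {C : Type u} [CommRing C] [HopfAlgebra k C] {R : Type u} [CommRing R] [Algebra k R]
    (f : Pt k C R) {a : C} (ha : IsGroupLikeElem k a) : ∀ n : ℕ, (f ^ n).ofConv a = f.ofConv a ^ n
  | 0 => by rw [pow_zero, pow_zero, HopfQuot.one_apply, ha.counit_eq_one, map_one]
  | n + 1 => by
    rw [pow_succ, pow_succ, HopfQuot.mul_apply, ha.comul_eq_tmul_self, ← pow_apply_groupLike f ha n]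
    simp

theorem resBC_pow {K : Type u} [Field K] [Algebra k K] {C : Type u} [CommRing C] [HopfAlgebra k C]
    {R : Type u} [CommRing R] [Algebra k R] [Algebra K R] [IsScalarTower k K R] (g : Pt K (K ⊗[k] C) R) :
    ∀ n : ℕ, resBC (g ^ n) = resBC g ^ n
  | 0 => by rw [pow_zero, pow_zero, resBC_one]
  | n + 1 => by rw [pow_succ, pow_succ, resBC_mul, resBC_pow g n]

/-- In characteristic `p` the geometric points of a group of multiplicative type are `p`-divisible. -/
theorem exists_root (p : ℕ) [Fact p.Prime] (K : Type u) [Field K] [Algebra k K] [IsAlgClosed K] [CharP K p]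
    (m : ℕ) (χ : Pt k (A ⧸ mIdeal k A) K) : ∃ ν : Pt k (A ⧸ mIdeal k A) K, ν ^ p ^ m = χ := by
  let C := K ⊗[k] (A ⧸ mIdeal k A)
  have hdiag : SGA3b.IsDiag K C := by
    refine isDiag_of_span_groupLike (top_le_iff.1 ?_)
    rw [← span_quot_eq_top (A := A) k K]
    refine Submodule.span_mono ?_
    rintro _ ⟨g, hg, rfl⟩
    exact hg.map _
  obtain ⟨Γ, _, ⟨e⟩⟩ := hdiag
  let χ' : Pt K C K := toConv (Algebra.TensorProduct.lift (Algebra.ofId K K) χ.ofConv fun _ _ => .all ..)
  have hχ : resBC χ' = χ := WithConv.ext (AlgHom.ext fun a => by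
    rw [resBC_apply]
    simp [χ'])
  let root : K → K := fun x => (iterateFrobeniusEquiv K p m).symm x
  let vals : Γ →* K := (((iterateFrobeniusEquiv K p m).symm : K →+* K) : K →* K).comp
    (((χ'.ofConv.comp (e.symm : MonoidAlgebra K Γ →ₐc[K] C).toAlgHom) : MonoidAlgebra K Γ →* K).comp
      (MonoidAlgebra.of K Γ))
  let ν' : Pt K C K := toConv ((MonoidAlgebra.lift K K Γ vals).comp (e : C →ₐc[K] MonoidAlgebra K Γ).toAlgHom)
  refine ⟨resBC ν', ?_⟩
  rw [← hχ, ← resBC_pow]
  congr 1
  refine WithConv.ext (AlgHom.ext fun c => ?_)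
  rw [← e.symm_apply_apply c]
  generalize e c = y
  induction y using MonoidAlgebra.induction_linear with
  | zero => simp
  | add u v hu hv => rw [map_add, map_add, map_add, hu, hv]
  | single γ r =>
    rw [show MonoidAlgebra.single γ r = r • MonoidAlgebra.single γ (1 : K) by simp, map_smul, map_smul, map_smul]
    congr 1
    have hgl : IsGroupLikeElem K (e.symm (MonoidAlgebra.single γ (1 : K))) :=
      (MonoidAlgebra.isGroupLikeElem_single_one γ).map (e.symm : MonoidAlgebra K Γ →ₐc[K] C)
    rw [pow_apply_groupLike K ν' hgl]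
    show (MonoidAlgebra.lift K K Γ vals) (e (e.symm (MonoidAlgebra.single γ (1 : K)))) ^ p ^ m = _
    rw [BialgEquiv.apply_symm_apply, MonoidAlgebra.lift_single, one_smul]
    exact (iterateFrobeniusEquiv_def K p m _).symm.trans ((iterateFrobeniusEquiv K p m).apply_symm_apply _)

/-- A quotient of the multiplicative part killed by a positive integer is finite. -/
theorem moduleFinite_of_killed {R : Type u} [CommRing R] [Algebra k R] [Algebra.FiniteType k R]
    (x : Pt k (A ⧸ mIdeal k A) R) (hx : Function.Surjective x.ofConv) (n : ℕ) (hn : 0 < n) (h : x ^ n = 1) :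
    Module.Finite k R := by
  let K := AlgebraicClosure k
  let C := K ⊗[k] (A ⧸ mIdeal k A)
  let xK : Pt K C (K ⊗[k] R) := toConv (Algebra.TensorProduct.map (AlgHom.id K K) x.ofConv)
  have h1 : resBC xK = push Algebra.TensorProduct.includeRight x := WithConv.ext (AlgHom.ext fun a => by
    rw [resBC_apply, push_apply]
    rfl)
  have hK : xK ^ n = 1 := resBC_ext (by rw [resBC_pow, h1, ← map_pow, h, map_one, resBC_one])
  have hsurj : Function.Surjective xK.ofConv := LinearMap.lTensor_surjective K (g := x.ofConv.toLinearMap) hx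
  haveI : Algebra.IsIntegral K (K ⊗[k] R) := ⟨fun y => by
    obtain ⟨c, rfl⟩ := hsurj y
    have hc : c ∈ Submodule.span K (bcHom K (mProj k A) '' {g : K ⊗[k] A | IsGroupLikeElem K g}) := by
      rw [span_quot_eq_top]; trivial
    induction hc using Submodule.span_induction with
    | mem z hz =>
      obtain ⟨g, hg, rfl⟩ := hz
      refine IsIntegral.of_pow hn ?_
      rw [← pow_apply_groupLike K xK (hg.map _), hK, HopfQuot.one_apply]
      exact isIntegral_algebraMap
    | zero => rw [map_zero]; exact isIntegral_zero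
    | add u v _ _ hu hv => rw [map_add]; exact hu.add hv
    | smul r u _ hu => rw [map_smul]; exact hu.smul r⟩
  haveI : Module.Finite K (K ⊗[k] R) := Algebra.IsIntegral.finite
  exact Module.Finite.of_finite_tensorProduct_of_faithfullyFlat K

end Groth.Agent.MultSeq25
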