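import Groth.Agent.MultSeq25.Complement
import Groth.Agent.IsoTriv.Subgroup
import Groth.Agent.HopfQuot.Descent
import Mathlib.FieldTheory.Perfect
import Mathlib.FieldTheory.Galois.Infinite

/-!
# Over a perfect field the multiplicative part splits off
-/

set_option autoImplicit false
set_option backward.isDefEq.respectTransparency.types false
set_option linter.style.haveILetI false
set_option linter.unusedSectionVars false
set_option linter.unusedVariables false
set_option maxHeartbeats 1000000

noncomputable section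

universe u

open TensorProduct WithConv HopfRep
open Groth.Agent.HopfLib Groth.Agent.HopfQuot Groth.Agent.HopfQuot.CommMultPart Groth.Agent.SGA3bLib

namespace Groth.Agent.MultSeq25

section Semilinear

variable {k K : Type u} [Field k] [Field K] [Algebra k K]

/-- The semilinear automorphism of a base change. -/
abbrev semi (σ : K ≃ₐ[k] K) (A : Type u) [CommRing A] [Algebra k A] : K ⊗[k] A →ₐ[k] K ⊗[k] A :=
  Algebra.TensorProduct.map σ.toAlgHom (AlgHom.id k A)

variable {A : Type u} [CommRing A] [HopfAlgebra k A]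

theorem semi_smul (σ : K ≃ₐ[k] K) (r : K) (x : K ⊗[k] A) : semi σ A (r • x) = σ r • semi σ A x := by
  induction x using TensorProduct.induction_on with
  | zero => simp
  | add p q hp hq => simp only [smul_add, map_add, hp, hq]
  | tmul p q => simp [TensorProduct.smul_tmul', map_mul]

theorem semi_semi_symm (σ : K ≃ₐ[k] K) (x : K ⊗[k] A) : semi σ A (semi σ.symm A x) = x := by
  induction x using TensorProduct.induction_on with
  | zero => simp
  | add p q hp hq => simp only [map_add, hp, hq]
  | tmul p q => simp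

theorem isGroupLike_semi (σ : K ≃ₐ[k] K) {z : K ⊗[k] A} (hz : IsGroupLikeElem K z) :
    IsGroupLikeElem K (semi σ A z) := by
  let f : (K ⊗[k] A) →+ (K ⊗[k] A) →+ ((K ⊗[k] A) ⊗[K] (K ⊗[k] A)) :=
    AddMonoidHom.mk' (fun x => AddMonoidHom.mk' (fun y => semi σ A x ⊗ₜ[K] semi σ A y)
      (fun a b => by rw [map_add, TensorProduct.tmul_add]))
      (fun a b => AddMonoidHom.ext fun y => by simp [TensorProduct.add_tmul])
  let σ₂ : ((K ⊗[k] A) ⊗[K] (K ⊗[k] A)) →+ ((K ⊗[k] A) ⊗[K] (K ⊗[k] A)) :=
    TensorProduct.liftAddHom f fun r m n => by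
      show semi σ A (r • m) ⊗ₜ[K] semi σ A n = semi σ A m ⊗ₜ[K] semi σ A (r • n)
      rw [semi_smul, semi_smul, TensorProduct.smul_tmul]
  have hσ₂ : ∀ x y, σ₂ (x ⊗ₜ y) = semi σ A x ⊗ₜ semi σ A y := fun x y => rfl
  have hsm : ∀ (r : K) t, σ₂ (r • t) = σ r • σ₂ t := fun r t => by
    induction t using TensorProduct.induction_on with
    | zero => simp
    | add p q hp hq => simp only [smul_add, map_add, hp, hq]
    | tmul p q => rw [TensorProduct.smul_tmul', hσ₂, semi_smul, hσ₂, TensorProduct.smul_tmul']
  have hincl : ∀ t : A ⊗[k] A, σ₂ (incl₂ K A t) = incl₂ K A t := fun t => by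
    induction t using TensorProduct.induction_on with
    | zero => simp
    | add p q hp hq => simp only [map_add, hp, hq]
    | tmul p q => rw [incl₂_tmul, hσ₂]; simp
  have hΔ : ∀ x, CoalgebraStruct.comul (R := K) (semi σ A x) = σ₂ (CoalgebraStruct.comul (R := K) x) := fun x => by
    induction x using TensorProduct.induction_on with
    | zero => simp
    | add p q hp hq => simp only [map_add, hp, hq]
    | tmul r a =>
      have hb : semi σ A ((1 : K) ⊗ₜ[k] a) = (1 : K) ⊗ₜ[k] a := by simp
      rw [show r ⊗ₜ[k] a = r • ((1 : K) ⊗ₜ[k] a) by rw [TensorProduct.smul_tmul', smul_eq_mul, mul_one],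
        semi_smul, hb, map_smul, map_smul, hsm, comul_one_tmul, hincl]
  have hε : ∀ x, CoalgebraStruct.counit (R := K) (semi σ A x) = σ (CoalgebraStruct.counit (R := K) x) := fun x => by
    induction x using TensorProduct.induction_on with
    | zero => simp
    | add p q hp hq => simp only [map_add, hp, hq]
    | tmul r a =>
      show CoalgebraStruct.counit (R := K) (σ r ⊗ₜ[k] a) = _
      rw [TensorProduct.counit_tmul, TensorProduct.counit_tmul]
      exact (map_smul σ.toLinearMap _ r).symm
  exact ⟨by rw [hε, hz.counit_eq_one, map_one], by rw [hΔ, hz.comul_eq_tmul_self, hσ₂]⟩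

theorem exists_one_tmul_of_fixed [IsGalois k K] (z : K ⊗[k] A) (hz : ∀ σ : K ≃ₐ[k] K, semi σ A z = z) :
    ∃ a : A, z = (1 : K) ⊗ₜ[k] a := by
  let b := Module.Basis.ofVectorSpace k A
  let bK := Algebra.TensorProduct.basis K b
  have h1 : ∀ (σ : K ≃ₐ[k] K) w i, bK.repr (semi σ A w) i = σ (bK.repr w i) := fun σ w i => by
    induction w using TensorProduct.induction_on with
    | zero => simp
    | add p q hp hq => simp only [map_add, Finsupp.add_apply, hp, hq]
    | tmul p q => simp [bK]
  have hc : ∀ i, ∃ c : k, algebraMap k K c = bK.repr z i := fun i =>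
    (InfiniteGalois.mem_range_algebraMap_iff_fixed _).2 fun σ => by rw [← h1, hz σ]
  choose c hc using hc
  refine ⟨∑ i ∈ (bK.repr z).support, c i • b i, ?_⟩
  rw [TensorProduct.tmul_sum]
  conv_lhs => rw [← bK.linearCombination_repr z, Finsupp.linearCombination_apply, Finsupp.sum]
  refine Finset.sum_congr rfl fun i _ => ?_
  rw [← hc, Algebra.TensorProduct.basis_apply, algebraMap_smul, TensorProduct.tmul_smul]

end Semilinear

variable (k : Type u) [Field k] {A : Type u} [CommRing A] [HopfAlgebra k A] [Coalgebra.IsCocomm k A]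

section Lift

variable (K : Type u) [Field K] [Algebra k K] [IsAlgClosed K]

theorem existsUnique_groupLike_lift {z : K ⊗[k] (A ⧸ mIdeal k A)} (hz : IsGroupLikeElem K z) :
    ∃! g : K ⊗[k] A, IsGroupLikeElem K g ∧ bcHom K (mProj k A) g = z := by
  haveI : Coalgebra.IsCocomm K (K ⊗[k] A) := isCocomm_baseChange
  refine existsUnique_of_exists_of_unique ?_ fun g g' hg hg' => ?_
  · by_contra hne
    have hS : bcHom K (mProj k A) '' {g : K ⊗[k] A | IsGroupLikeElem K g} ⊆
        {a : K ⊗[k] (A ⧸ mIdeal k A) | IsGroupLikeElem K a} := by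
      rintro _ ⟨g, hg, rfl⟩; exact hg.map _
    have hzS : z ∉ bcHom K (mProj k A) '' {g : K ⊗[k] A | IsGroupLikeElem K g} := fun ⟨g, hg, h⟩ => hne ⟨g, hg, h⟩
    have hi : LinearIndepOn K id (insert z (bcHom K (mProj k A) '' {g : K ⊗[k] A | IsGroupLikeElem K g})) :=
      (linearIndepOn_isGroupLikeElem (R := K) (A := K ⊗[k] (A ⧸ mIdeal k A))).mono (Set.insert_subset hz hS)
    exact hi.notMem_span_of_insert hzS (by rw [Set.image_id, span_quot_eq_top]; trivial)
  · have h1 : g * HopfAlgebraStruct.antipode K g' = 1 := by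
      refine eq_one_of_sub_mem K (hg.1.mul hg'.1.antipode) (ker_bc_le k K ?_)
      show bcHom K (mProj k A) (g * HopfAlgebraStruct.antipode K g' - 1) = 0
      rw [map_sub, map_mul, hg.2, ← hg'.2, ← map_mul, hg'.1.mul_antipode_cancel, map_one, sub_self]
    rw [← mul_one g, ← hg'.1.antipode_mul_cancel, ← mul_assoc, h1, one_mul]

/-- The section over an algebraically closed field. -/
theorem exists_section_algClosed :
    ∃ s : K ⊗[k] (A ⧸ mIdeal k A) →ₐ[K] K ⊗[k] A, ∀ z, IsGroupLikeElem K z →
      IsGroupLikeElem K (s z) ∧ bcHom K (mProj k A) (s z) = z := by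
  let C := K ⊗[k] (A ⧸ mIdeal k A)
  haveI : Coalgebra.IsCocomm K (K ⊗[k] A) := isCocomm_baseChange
  choose L hL hLu using fun (z : {z : C // IsGroupLikeElem K z}) => (existsUnique_groupLike_lift k K z.2)
  have hdiag : SGA3b.IsDiag K C := by
    refine isDiag_of_span_groupLike (top_le_iff.1 ?_)
    rw [← span_quot_eq_top (A := A) k K]
    refine Submodule.span_mono ?_
    rintro _ ⟨g, hg, rfl⟩
    exact hg.map _
  obtain ⟨Γ, _, ⟨e⟩⟩ := hdiag
  have hgl : ∀ γ : Γ, IsGroupLikeElem K (e.symm (MonoidAlgebra.single γ (1 : K))) := fun γ =>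
    (MonoidAlgebra.isGroupLikeElem_single_one γ).map (e.symm : MonoidAlgebra K Γ →ₐc[K] C)
  let vals : Γ →* K ⊗[k] A :=
    { toFun := fun γ => L ⟨_, hgl γ⟩
      map_one' := (hLu ⟨_, hgl 1⟩ 1 ⟨IsGroupLikeElem.one, by
        rw [map_one]
        show (1 : C) = e.symm (MonoidAlgebra.single 1 1)
        rw [← MonoidAlgebra.one_def, map_one]⟩).symm
      map_mul' := fun γ δ => (hLu ⟨_, hgl (γ * δ)⟩ _ ⟨(hL ⟨_, hgl γ⟩).1.mul (hL ⟨_, hgl δ⟩).1, by
        rw [map_mul, (hL ⟨_, hgl γ⟩).2, (hL ⟨_, hgl δ⟩).2]
        show e.symm _ * e.symm _ = e.symm _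
        rw [← map_mul, MonoidAlgebra.single_mul_single, one_mul]⟩).symm }
  let s : C →ₐ[K] K ⊗[k] A := (MonoidAlgebra.lift K (K ⊗[k] A) Γ vals).comp (e : C →ₐc[K] MonoidAlgebra K Γ).toAlgHom
  refine ⟨s, fun z hz => ?_⟩
  -- every group-like element is some `single γ 1`
  obtain ⟨γ, hγ⟩ : ∃ γ, e.symm (MonoidAlgebra.single γ (1 : K)) = z := by
    by_contra hne
    let S : Set C := Set.range fun γ => e.symm (MonoidAlgebra.single γ (1 : K))
    have hspan : z ∈ Submodule.span K S := by
      rw [← e.symm_apply_apply z]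
      generalize e z = y
      induction y using MonoidAlgebra.induction_linear with
      | zero => rw [map_zero]; exact zero_mem _
      | add u v hu hv => rw [map_add]; exact add_mem hu hv
      | single γ r =>
        rw [show MonoidAlgebra.single γ r = r • MonoidAlgebra.single γ (1 : K) by simp, map_smul]
        exact Submodule.smul_mem _ _ (Submodule.subset_span ⟨γ, rfl⟩)
    have hi : LinearIndepOn K id (insert z S) :=
      (linearIndepOn_isGroupLikeElem (R := K) (A := C)).mono
        (Set.insert_subset hz (by rintro _ ⟨γ, rfl⟩; exact hgl γ))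
    exact hi.notMem_span_of_insert hne (by rw [Set.image_id]; exact hspan)
  subst hγ
  have hs : s (e.symm (MonoidAlgebra.single γ (1 : K))) = L ⟨_, hgl γ⟩ := by
    show MonoidAlgebra.lift K (K ⊗[k] A) Γ vals (e (e.symm (MonoidAlgebra.single γ (1 : K)))) = _
    rw [BialgEquiv.apply_symm_apply, MonoidAlgebra.lift_single, one_smul]
    rfl
  rw [hs]
  exact hL ⟨_, hgl γ⟩

end Lift

/-- A homomorphic section of the multiplicative part over a perfect field. -/
structure MSection (A : Type u) [CommRing A] [HopfAlgebra k A] [Coalgebra.IsCocomm k A] where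
  s : (A ⧸ mIdeal k A) →ₐ[k] A
  proj : ∀ x, mProj k A (s x) = x
  mul_comp : ∀ (R : Type u) [CommRing R] [Algebra k R] (g h : Pt k A R),
    toConv ((g * h).ofConv.comp s) = (toConv (g.ofConv.comp s) * toConv (h.ofConv.comp s) : Pt k (A ⧸ mIdeal k A) R)
  unip : ∀ (I : Ideal A) [I.IsHopfIdeal k], IsUnipotent k (A ⧸ I) → ∀ x,
    Ideal.Quotient.mk I (s x) = algebraMap k (A ⧸ I) (CoalgebraStruct.counit (R := k) x)

theorem exists_msection [PerfectField k] : Nonempty (MSection k A) := by
  let K := AlgebraicClosure k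
  haveI : Algebra.IsSeparable k K := Algebra.IsAlgebraic.isSeparable_of_perfectField
  haveI : IsGalois k K := ⟨⟩
  obtain ⟨sK, hsK⟩ := exists_section_algClosed k (A := A) K
  have hspan : ∀ z : K ⊗[k] (A ⧸ mIdeal k A),
      z ∈ Submodule.span K {z : K ⊗[k] (A ⧸ mIdeal k A) | IsGroupLikeElem K z} := fun z => by
    refine Submodule.span_mono ?_ ((span_quot_eq_top (A := A) k K).ge (Submodule.mem_top (x := z)))
    rintro _ ⟨g, hg, rfl⟩
    exact hg.map _
  have hequiv : ∀ (σ : K ≃ₐ[k] K) (z : K ⊗[k] (A ⧸ mIdeal k A)),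
      semi σ A (sK (semi σ.symm (A ⧸ mIdeal k A) z)) = sK z := fun σ z => by
    induction hspan z using Submodule.span_induction with
    | mem z hz =>
      refine (existsUnique_groupLike_lift k K hz).unique
        ⟨isGroupLike_semi σ (hsK _ (isGroupLike_semi σ.symm hz)).1, ?_⟩ (hsK z hz)
      have hcomm : ∀ y, bcHom K (mProj k A) (semi σ A y) = semi σ (A ⧸ mIdeal k A) (bcHom K (mProj k A) y) :=
        fun y => by
          induction y using TensorProduct.induction_on with
          | zero => simp
          | add p q hp hq => simp only [map_add, hp, hq]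
          | tmul p q => rfl
      rw [hcomm, (hsK _ (isGroupLike_semi σ.symm hz)).2, semi_semi_symm]
    | zero => simp
    | add p q _ _ hp hq => simp only [map_add, hp, hq]
    | smul r p _ hp =>
      rw [semi_smul, map_smul, semi_smul, AlgEquiv.apply_symm_apply, hp, map_smul]
  have hfix : ∀ x, ∃ a : A, sK ((1 : K) ⊗ₜ[k] x) = (1 : K) ⊗ₜ[k] a := fun x =>
    exists_one_tmul_of_fixed _ fun σ => by
      have h := hequiv σ ((1 : K) ⊗ₜ[k] x)
      rw [Algebra.TensorProduct.map_tmul, map_one] at h
      exact h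
  choose s₀ hs₀ using hfix
  have hinj : Function.Injective fun a : A => (1 : K) ⊗ₜ[k] a := includeRight_injective (k := k) (R := K)
  let s : (A ⧸ mIdeal k A) →ₐ[k] A :=
    { toFun := s₀
      map_one' := hinj (by
        show (1 : K) ⊗ₜ[k] s₀ 1 = (1 : K) ⊗ₜ[k] (1 : A)
        rw [← hs₀, ← Algebra.TensorProduct.one_def, map_one]; rfl)
      map_mul' := fun x y => hinj (by
        show (1 : K) ⊗ₜ[k] s₀ (x * y) = (1 : K) ⊗ₜ[k] (s₀ x * s₀ y)
        rw [← hs₀, ← one_mul (1 : K), ← Algebra.TensorProduct.tmul_mul_tmul, map_mul, hs₀, hs₀,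
          Algebra.TensorProduct.tmul_mul_tmul, one_mul])
      map_zero' := hinj (by
        show (1 : K) ⊗ₜ[k] s₀ 0 = (1 : K) ⊗ₜ[k] (0 : A)
        rw [← hs₀, TensorProduct.tmul_zero, TensorProduct.tmul_zero, map_zero])
      map_add' := fun x y => hinj (by
        show (1 : K) ⊗ₜ[k] s₀ (x + y) = (1 : K) ⊗ₜ[k] (s₀ x + s₀ y)
        rw [← hs₀, TensorProduct.tmul_add, TensorProduct.tmul_add, map_add, hs₀, hs₀])
      commutes' := fun c => hinj (by
        show (1 : K) ⊗ₜ[k] s₀ (algebraMap k _ c) = (1 : K) ⊗ₜ[k] (algebraMap k A c)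
        rw [← hs₀, Algebra.algebraMap_eq_smul_one, Algebra.algebraMap_eq_smul_one, TensorProduct.tmul_smul,
          TensorProduct.tmul_smul, ← Algebra.TensorProduct.one_def, ← algebraMap_smul K c, map_smul, map_one,
          algebraMap_smul, Algebra.TensorProduct.one_def]) }
  have hs : ∀ x, sK ((1 : K) ⊗ₜ[k] x) = (1 : K) ⊗ₜ[k] s x := hs₀
  refine ⟨⟨s, fun x => ?_, fun R _ _ g h => ?_, fun I _ hU x => ?_⟩⟩
  · refine includeRight_injective (k := k) (R := K) ?_
    show bcHom K (mProj k A) ((1 : K) ⊗ₜ[k] s x) = (1 : K) ⊗ₜ[k] x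
    rw [← hs]
    generalize (1 : K) ⊗ₜ[k] x = z
    induction hspan z using Submodule.span_induction with
    | mem z hz => exact (hsK z hz).2
    | zero => simp
    | add p q _ _ hp hq => rw [map_add, map_add, hp, hq]
    | smul r p _ hp => rw [map_smul, map_smul, hp]
  · let up : Pt k A R → Pt K (K ⊗[k] A) (K ⊗[k] R) := fun g =>
      toConv (Algebra.TensorProduct.map (AlgHom.id K K) g.ofConv)
    have hup : ∀ g : Pt k A R, resBC (up g) = push Algebra.TensorProduct.includeRight g := fun g =>
      WithConv.ext (AlgHom.ext fun a => by rw [resBC_apply, push_apply]; rfl)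
    have hpt : (up (g * h)) = up g * up h := resBC_ext (by rw [resBC_mul, hup, hup, hup, map_mul])
    let c : Pt K (K ⊗[k] A) (K ⊗[k] R) → Pt K (K ⊗[k] (A ⧸ mIdeal k A)) (K ⊗[k] R) := fun G =>
      toConv (G.ofConv.comp sK)
    have hc : c (up g * up h) = c (up g) * c (up h) := by
      refine WithConv.ext (AlgHom.ext fun z => ?_)
      induction hspan z using Submodule.span_induction with
      | mem z hz =>
        show (up g * up h).ofConv (sK z) = _
        rw [HopfQuot.mul_apply, (hsK z hz).1.comul_eq_tmul_self, HopfQuot.mul_apply, hz.comul_eq_tmul_self]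
        simp [c]
      | zero => simp
      | add p q _ _ hp hq => rw [map_add, map_add, hp, hq]
      | smul r p _ hp => rw [map_smul, map_smul, hp]
    have hres : ∀ g : Pt k A R, resBC (c (up g)) = push Algebra.TensorProduct.includeRight (toConv (g.ofConv.comp s)) :=
      fun g => WithConv.ext (AlgHom.ext fun x => by
        rw [resBC_apply, push_apply]
        show (up g).ofConv (sK ((1 : K) ⊗ₜ[k] x)) = _
        rw [hs]; rfl)
    refine ext_of_push (φ := (Algebra.TensorProduct.includeRight : R →ₐ[k] K ⊗[k] R))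
      (Algebra.TensorProduct.includeRight_injective (R := k) (A := K) (B := R) (algebraMap k K).injective) ?_
    rw [map_mul, ← hres, ← hres, ← hres, ← resBC_mul, hpt, hc]
  · haveI : Coalgebra.IsCocomm k (A ⧸ I) :=
      IsoTriv.isCocomm_of_surjective (Bialgebra.Quotient.mkBialgHom (R := k) I) Ideal.Quotient.mk_surjective
    haveI : Coalgebra.IsCocomm K (K ⊗[k] (A ⧸ I)) := isCocomm_baseChange
    have hUK : IsUnipotent K (K ⊗[k] (A ⧸ I)) := isUnipotent_iff_baseChange.1 hU
    refine includeRight_injective (k := k) (R := K) ?_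
    let πI := bcHom K (Bialgebra.Quotient.mkBialgHom (R := k) I)
    have key : ∀ z, πI (sK z) = algebraMap K _ (CoalgebraStruct.counit (R := K) z) := fun z => by
      induction hspan z using Submodule.span_induction with
      | mem z hz =>
        obtain ⟨r, hr⟩ := isUnipotent_iff_forall_mem_socFil.1 hUK (πI (sK z))
        rw [eq_one_of_groupLike K ((hsK z hz).1.map πI) _ hr, hz.counit_eq_one, map_one]
      | zero => simp
      | add p q _ _ hp hq => rw [map_add, map_add, hp, hq, map_add, map_add]
      | smul r p _ hp => rw [map_smul, map_smul, hp, map_smul, smul_eq_mul, map_mul, Algebra.smul_def]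
    have h := key ((1 : K) ⊗ₜ[k] x)
    rw [hs, TensorProduct.counit_tmul] at h
    refine h.trans ?_
    rw [Algebra.TensorProduct.algebraMap_apply, Algebra.algebraMap_self, RingHom.id_apply]
    show ((CoalgebraStruct.counit (R := k) x) • (1 : K)) ⊗ₜ[k] (1 : A ⧸ I) = _
    rw [TensorProduct.smul_tmul, ← Algebra.algebraMap_eq_smul_one]

namespace MSection

variable {k} (S : MSection k A) {R : Type u} [CommRing R] [Algebra k R]

/-- Projection of points to the multiplicative part, seen in `A`. -/
def theta : Pt k A R →* Pt k A R :=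
  MonoidHom.mk' (fun g => toConv ((g.ofConv.comp S.s).comp (Ideal.Quotient.mkₐ k (mIdeal k A)))) fun g h => by
    refine WithConv.ext (AlgHom.ext fun a => ?_)
    have e := congrArg (fun x => x.ofConv (Ideal.Quotient.mk (mIdeal k A) a)) (S.mul_comp R g h)
    refine e.trans ?_
    rw [HopfQuot.mul_apply]
    rw [show Ideal.Quotient.mk (mIdeal k A) a = mProj k A a from rfl, ← CoalgHomClass.map_comp_comul_apply,
      HopfQuot.mul_apply]
    generalize CoalgebraStruct.comul (R := k) a = t
    induction t using TensorProduct.induction_on with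
    | zero => simp
    | add p q hp hq => simp only [map_add, hp, hq]
    | tmul p q => simp

theorem theta_apply (g : Pt k A R) (a : A) :
    (S.theta g).ofConv a = g.ofConv (S.s (Ideal.Quotient.mk (mIdeal k A) a)) := rfl

theorem push_theta {R' : Type u} [CommRing R'] [Algebra k R'] (φ : R →ₐ[k] R') (g : Pt k A R) :
    push φ (S.theta g) = S.theta (push φ g) := rfl

/-- The universal point of the unipotent part. -/
def uPt : Pt k A A := idPt k A * (S.theta (idPt k A))⁻¹

theorem push_uPt (g : Pt k A R) : push g.ofConv S.uPt = g * (S.theta g)⁻¹ := by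
  rw [uPt, map_mul, map_inv, push_theta, push_idPt]

/-- The projection to the unipotent part. -/
def uHom : A →ₐc[k] A := by
  refine BialgHom.ofAlgHom S.uPt.ofConv (AlgHom.ext fun a => ?_) (AlgHom.ext fun a => ?_)
  · have h := congrArg (fun x => x.ofConv a) (S.push_uPt (toConv (Bialgebra.counitAlgHom k A)))
    refine h.trans ?_
    have h1 : (toConv (Bialgebra.counitAlgHom k A) : Pt k A k) = 1 :=
      WithConv.ext (AlgHom.ext fun b => by rw [HopfQuot.one_apply]; rfl)
    rw [h1, map_one, inv_one, mul_one, HopfQuot.one_apply]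
    rfl
  · let il : Pt k A (A ⊗[k] A) := push Algebra.TensorProduct.includeLeft (idPt k A)
    let ir : Pt k A (A ⊗[k] A) := push Algebra.TensorProduct.includeRight (idPt k A)
    have hc : ∀ b, (il * ir).ofConv b = CoalgebraStruct.comul (R := k) b := fun b => by
      rw [HopfQuot.mul_apply]
      generalize CoalgebraStruct.comul (R := k) b = t
      induction t using TensorProduct.induction_on with
      | zero => simp
      | add p q hp hq => simp only [map_add, hp, hq]
      | tmul p q => simp [il, ir]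
    have h := congrArg (fun x => x.ofConv a) (S.push_uPt (il * ir))
    have e2 : (il * ir) * (S.theta (il * ir))⁻¹ = (il * (S.theta il)⁻¹) * (ir * (S.theta ir)⁻¹) := by
      rw [map_mul, mul_inv_rev, mul_comm (S.theta ir)⁻¹, mul_mul_mul_comm]
    rw [e2] at h
    show TensorProduct.map _ _ (CoalgebraStruct.comul (R := k) a) = CoalgebraStruct.comul (R := k) (S.uPt.ofConv a)
    refine Eq.trans ?_ (hc _)
    refine Eq.trans ?_ h.symm
    rw [← S.push_uPt il, ← S.push_uPt ir, HopfQuot.mul_apply]
    generalize CoalgebraStruct.comul (R := k) a = t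
    induction t using TensorProduct.induction_on with
    | zero => simp
    | add p q hp hq => simp only [map_add, hp, hq]
    | tmul p q => simp [il, ir]

theorem uHom_apply (a : A) : S.uHom a = S.uPt.ofConv a := rfl

theorem uHom_mem (a : A) : S.uHom a ∈ unipAlg k A := by
  rw [← invAlg_eq_of_augIdealSpan (k := k) (B := unipAlg k A) isHopfSubalgebra_unipAlg]
  refine mem_invAlg_of_forall fun R _ _ g n hn => ?_
  have hn' : S.theta n = n := by
    obtain ⟨φ, rfl⟩ := hn.exists_push
    refine WithConv.ext (AlgHom.ext fun b => ?_)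
    show φ (Ideal.Quotient.mk _ (S.s (Ideal.Quotient.mk _ b))) = φ (Ideal.Quotient.mk _ b)
    exact congrArg φ (S.proj _)
  have h1 := congrArg (fun x => x.ofConv a) (S.push_uPt (g * n))
  have h2 := congrArg (fun x => x.ofConv a) (S.push_uPt g)
  rw [map_mul, hn', mul_inv_rev, mul_comm n⁻¹, mul_mul_mul_comm, mul_inv_cancel, mul_one] at h1
  exact h1.trans h2.symm

end MSection

end Groth.Agent.MultSeq25
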