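import Groth.Agent.MultSeq25.Algebra
import Groth.Agent.HopfQuot.SchemeQuot
import Groth.Agent.HopfLib.FaithfullyFlat
import Groth.Agent.IsoTriv.SchemeBridge
import Groth.Agent.UnipStruct.Basic

/-!
# Exactness of the largest subgroup of multiplicative type, for group schemes
-/

set_option autoImplicit false
set_option backward.isDefEq.respectTransparency.types false
set_option backward.isDefEq.respectTransparency false
set_option linter.style.haveILetI false
set_option linter.unusedSectionVars false
set_option maxHeartbeats 1000000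

noncomputable section

universe u

open CategoryTheory MonoidalCategory CartesianMonoidalCategory MonObj GrpObj AlgebraicGeometry CategoryTheory.Limits
open Groth.Agent.HopfQuot

namespace Groth.Agent.MultSeq25

variable {k : Type u} [Field k]

/-- The ring map of a point of the spectrum of a Hopf algebra. -/
def ptRing {A : Type u} [CommRing A] [HopfAlgebra k A] {T : Over (Spec (CommRingCat.of k))}
    (x : T ⟶ spec (k := k) A) : A →+* Γ(T.left, ⊤) :=
  ((Scheme.ΓSpecIso (CommRingCat.of A)).inv ≫ x.left.appTop).hom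

theorem ptRing_comp {A B : Type u} [CommRing A] [HopfAlgebra k A] [CommRing B] [HopfAlgebra k B]
    {T : Over (Spec (CommRingCat.of k))} (y : T ⟶ spec (k := k) B) (π : A →ₐc[k] B) (a : A) :
    ptRing (y ≫ specHom π) a = ptRing y (π a) := by
  show ((Scheme.ΓSpecIso (CommRingCat.of A)).inv ≫ (y ≫ specHom π).left.appTop) a =
    (CommRingCat.ofHom (π : A →+* B) ≫ (Scheme.ΓSpecIso (CommRingCat.of B)).inv ≫ y.left.appTop) a
  rw [Over.comp_left, Scheme.Hom.comp_appTop, specHom_left, Scheme.ΓSpecIso_inv_naturality_assoc]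

theorem toSpecΓ_appTop {R : CommRingCat.{u}} {X : Scheme.{u}} (y : X ⟶ Spec R) :
    X.toSpecΓ ≫ Spec.map ((Scheme.ΓSpecIso R).inv ≫ y.appTop) = y := by
  rw [Spec.map_comp, ← Scheme.toSpecΓ_naturality_assoc, ← SpecMap_ΓSpecIso_hom, ← Spec.map_comp, Iso.inv_hom_id,
    Spec.map_id, Category.comp_id]

/-- Points killing the kernel of a surjection factor through it. -/
theorem exists_lift_of_kills {A B : Type u} [CommRing A] [HopfAlgebra k A] [CommRing B] [HopfAlgebra k B]
    (π : A →ₐc[k] B) (hπ : Function.Surjective π) {T : Over (Spec (CommRingCat.of k))} (x : T ⟶ spec (k := k) A)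
    (h : ∀ a, π a = 0 → ptRing x a = 0) : ∃ y : T ⟶ spec (k := k) B, y ≫ specHom π = x := by
  let ψ : B →+* Γ(T.left, ⊤) := (π : A →+* B).liftOfSurjective hπ ⟨ptRing x, fun a ha => h a (RingHom.mem_ker.1 ha)⟩
  have hψ : CommRingCat.ofHom (π : A →+* B) ≫ CommRingCat.ofHom ψ =
      (Scheme.ΓSpecIso (CommRingCat.of A)).inv ≫ x.left.appTop :=
    CommRingCat.hom_ext (RingHom.liftOfSurjective_comp _ hπ ⟨ptRing x, fun a ha => h a (RingHom.mem_ker.1 ha)⟩)
  let y₀ : T.left ⟶ Spec (CommRingCat.of B) := T.left.toSpecΓ ≫ Spec.map (CommRingCat.ofHom ψ)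
  have hy : y₀ ≫ (specHom π).left = x.left := by
    rw [specHom_left, Category.assoc, ← Spec.map_comp, hψ]
    exact toSpecΓ_appTop (R := CommRingCat.of A) x.left
  have hw : y₀ ≫ (spec (k := k) B).hom = T.hom := by
    rw [← Over.w (specHom π), ← Category.assoc, hy, Over.w x]
  exact ⟨Over.homMk y₀ hw, Over.OverMorphism.ext hy⟩

theorem mono_specHom {A B : Type u} [CommRing A] [HopfAlgebra k A] [CommRing B] [HopfAlgebra k B]
    (π : A →ₐc[k] B) (hπ : Function.Surjective π) : Mono (specHom π) := by
  haveI : IsClosedImmersion (specHom π).left := by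
    rw [specHom_left]; exact IsClosedImmersion.spec_of_surjective _ hπ
  exact (Over.forget _).mono_of_mono_map (inferInstanceAs (Mono (specHom π).left))

/-- A commutative affine group is the spectrum of a cocommutative Hopf algebra of finite type. -/
theorem exists_model (G : Over (Spec (CommRingCat.of k))) [GrpObj G] [IsCommMonObj G] [IsAffine G.left]
    [LocallyOfFiniteType G.hom] :
    ∃ (A : Type u) (_ : CommRing A) (_ : HopfAlgebra k A) (e : spec (k := k) A ⟶ G),
      IsIso e ∧ IsMonHom e ∧ Coalgebra.IsCocomm k A ∧ Algebra.FiniteType k A := by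
  obtain ⟨A, _, _, e, _, _⟩ := exists_spec (k := k) G
  haveI : IsCommMonObj (spec (k := k) A) := ⟨by
    rw [← cancel_mono e, Category.assoc, IsMonHom.mul_hom (f := e),
      ← BraidedCategory.braiding_naturality_assoc, IsCommMonObj.mul_comm]⟩
  haveI : IsIso e.left := inferInstanceAs (IsIso ((Over.forget _).map e))
  haveI : LocallyOfFiniteType (spec (k := k) A).hom := by
    rw [← Over.w e]
    infer_instance
  refine ⟨A, inferInstance, inferInstance, e, inferInstance, inferInstance, UnipStruct.isCocomm_of_comm, ?_⟩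
  exact RingHom.finiteType_algebraMap.1 ((HasRingHomProperty.Spec_iff (P := @LocallyOfFiniteType)
    (φ := CommRingCat.ofHom (algebraMap k A))).1 ‹LocallyOfFiniteType (spec (k := k) A).hom›)

/-- The bialgebra map of a closed immersion is surjective. -/
theorem surjective_of_closedImmersion {A B : Type u} [CommRing A] [HopfAlgebra k A] [CommRing B] [HopfAlgebra k B]
    (π : A →ₐc[k] B) (h : IsClosedImmersion (specHom π).left) : Function.Surjective π := by
  rw [specHom_left] at h
  have h2 := Scheme.Hom.app_surjective (Spec.map (CommRingCat.ofHom (π : A →+* B))) ⊤ (isAffineOpen_top _)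
  have e0 := Scheme.ΓSpecIso_inv_naturality (CommRingCat.ofHom (π : A →+* B))
  intro y
  obtain ⟨z, hz⟩ := h2 ((Scheme.ΓSpecIso (CommRingCat.of B)).inv y)
  obtain ⟨x, rfl⟩ := (ConcreteCategory.bijective_of_isIso (Scheme.ΓSpecIso (CommRingCat.of A)).inv).2 z
  refine ⟨x, (ConcreteCategory.bijective_of_isIso (Scheme.ΓSpecIso (CommRingCat.of B)).inv).1 ?_⟩
  exact (congrArg (fun f => f.hom x) e0).trans hz

theorem exists_hom_model {G H : Over (Spec (CommRingCat.of k))} [GrpObj G] [GrpObj H] (f : H ⟶ G) [IsMonHom f]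
    {A B : Type u} [CommRing A] [HopfAlgebra k A] [CommRing B] [HopfAlgebra k B]
    (e : spec (k := k) A ⟶ G) [IsIso e] [IsMonHom e] (e' : spec (k := k) B ⟶ H) [IsMonHom e'] :
    ∃ φ : A →ₐc[k] B, specHom φ ≫ e = e' ≫ f := by
  haveI : IsMonHom (inv e) := inferInstanceAs (IsMonHom (asIso e).inv)
  obtain ⟨φ, hφ⟩ := exists_specHom (k := k) (A := A) (B := B) (e' ≫ f ≫ inv e)
  exact ⟨φ, by rw [hφ]; simp⟩

/-- The largest subgroup of multiplicative type is the spectrum of the quotient by `mIdeal`. -/
theorem exists_iso_max {G : Over (Spec (CommRingCat.of k))} [GrpObj G]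
    {A : Type u} [CommRing A] [HopfAlgebra k A] [Coalgebra.IsCocomm k A] [Algebra.FiniteType k A]
    (e : spec (k := k) A ⟶ G) [IsIso e] [IsMonHom e]
    (M : Over (Spec (CommRingCat.of k))) [GrpObj M] (j : M ⟶ G) [IsMonHom j] [IsClosedImmersion j.left]
    (hM : SGA3x.IsMultTypeFT M)
    (hMmax : ∀ (M' : Over (Spec (CommRingCat.of k))) [GrpObj M'] (j' : M' ⟶ G) [IsMonHom j']
      [IsClosedImmersion j'.left], SGA3x.IsMultTypeFT M' → ∃ g : M' ⟶ M, g ≫ j = j') :
    ∃ w : spec (k := k) (A ⧸ mIdeal k A) ⟶ M, IsIso w ∧ w ≫ j = specHom (mProj k A) ≫ e := by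
  haveI : IsIso e.left := inferInstanceAs (IsIso ((Over.forget _).map e))
  haveI : Mono j := (Over.forget _).mono_of_mono_map (inferInstanceAs (Mono j.left))
  haveI : IsClosedImmersion (specHom (mProj k A)).left := by
    rw [specHom_left]; exact IsClosedImmersion.spec_of_surjective _ Ideal.Quotient.mk_surjective
  haveI : IsClosedImmersion (specHom (mProj k A) ≫ e).left := by
    rw [Over.comp_left]; infer_instance
  have hmt : SGA3x.IsMultTypeFT (spec (k := k) (A ⧸ mIdeal k A)) :=
    IsoTriv.SchemeBridge.multTypeFT_of_isMultType inferInstance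
      (IsoTriv.isMultType_of_const (isMultTypeConst_of_le k le_rfl))
  obtain ⟨w, hw⟩ := hMmax (spec (k := k) (A ⧸ mIdeal k A)) (specHom (mProj k A) ≫ e) hmt
  haveI : IsAffine (spec (k := k) A).left := inferInstanceAs (IsAffine (Spec (CommRingCat.of A)))
  haveI : IsAffine G.left := .of_isIso (inv e.left)
  haveI : IsAffine M.left := isAffine_of_isAffineHom j.left
  obtain ⟨B, _, _, eM, _, _⟩ := exists_spec (k := k) M
  obtain ⟨π, hπ⟩ := exists_hom_model j e eM
  have hmB : SGA3b.IsMultType k B := by
    refine IsoTriv.SchemeBridge.isMultType_of_multTypeFT ?_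
    refine IsoTriv.SchemeBridge.isMultTypeFT_of_iso ?_ hM
    exact (Grp.mkIso' (asIso eM)).symm
  have hπs : Function.Surjective π := by
    refine surjective_of_closedImmersion π ?_
    have h : (specHom π).left = eM.left ≫ j.left ≫ inv e.left := by
      have : (specHom π).left ≫ e.left = eM.left ≫ j.left := by
        rw [← Over.comp_left, ← Over.comp_left, hπ]
      rw [← reassoc_of% this, IsIso.hom_inv_id, Category.comp_id]
    haveI : IsIso eM.left := inferInstanceAs (IsIso ((Over.forget _).map eM))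
    rw [h]; infer_instance
  obtain ⟨y, hy⟩ := exists_lift_of_kills (mProj k A) Ideal.Quotient.mk_surjective (inv eM ≫ specHom π)
    (fun a ha => by
      rw [ptRing_comp, show π a = 0 from mIdeal_le k π hmB (Ideal.Quotient.eq_zero_iff_mem.1 ha), map_zero])
  have hyj : y ≫ specHom (mProj k A) ≫ e = j := by
    rw [reassoc_of% hy, hπ]; simp
  refine ⟨w, ⟨y, ?_, ?_⟩, hw⟩
  · haveI := mono_specHom (mProj k A) Ideal.Quotient.mk_surjective
    rw [← cancel_mono (specHom (mProj k A) ≫ e), Category.assoc, hyj, hw, Category.id_comp]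
  · rw [← cancel_mono j, Category.assoc, hw, hyj, Category.id_comp]

end Groth.Agent.MultSeq25
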